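import Cfsg.Agent.Lib.LocalEven.AltOvergroup.Tetrads
import Cfsg.Agent.Lib.Components.FStar
import Cfsg.Agent.Lib.InvChar.SmallSolvable

/-!
A permutation group with a self-centralizing quasisimple normal subgroup and a regular four-group
on four points is primitive as soon as it is transitive.
-/

set_option autoImplicit false

namespace CfsgLib.LocalEven.AltOvergroup

open Equiv
open scoped Pointwise

variable {α : Type*} [Fintype α] [DecidableEq α]

/-- `K` is a quasisimple normal subgroup of `H` containing its centralizer in `H`. -/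
structure Core (H K : Subgroup (Perm α)) : Prop where
  le : K ≤ H
  norm : ∀ h ∈ H, ∀ k ∈ K, h * k * h⁻¹ ∈ K
  qs : Cfsg.IsQuasisimple ↥K
  cent : ∀ z ∈ H, (∀ k ∈ K, k * z = z * k) → z ∈ K

omit [Fintype α] [DecidableEq α] in
theorem le_normalizer_of_conj {K A : Subgroup (Perm α)}
    (h : ∀ k ∈ K, ∀ a ∈ A, k * a * k⁻¹ ∈ A) : K ≤ Subgroup.normalizer (A : Set (Perm α)) :=
  fun k hk => Subgroup.mem_normalizer_iff.2 fun a => ⟨h k hk a, fun ha => by
    simpa [mul_assoc] using h k⁻¹ (K.inv_mem hk) _ ha⟩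

/-- The restriction of a group to an invariant set. -/
def restrictTo (H : Subgroup (Perm α)) (Δ : Finset α) (h : ∀ g ∈ H, ∀ z ∈ Δ, g z ∈ Δ) :
    ↥H →* Perm ↥Δ where
  toFun g := (g : Perm α).subtypePerm fun z => ⟨fun hz => by
    simpa using h _ (H.inv_mem g.2) _ hz, h g g.2 z⟩
  map_one' := by ext; rfl
  map_mul' g g' := by ext; rfl

omit [Fintype α] [DecidableEq α] in
theorem restrictTo_apply {H : Subgroup (Perm α)} {Δ : Finset α} (h : ∀ g ∈ H, ∀ z ∈ Δ, g z ∈ Δ)
    (g : ↥H) (z : ↥Δ) : ((restrictTo H Δ h g z : ↥Δ) : α) = (g : Perm α) z := rfl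

omit [Fintype α] [DecidableEq α] in
theorem eq_bot_of_solvable_perfect {X : Type*} [Group X] [Group.IsSolvable X]
    (h : _root_.commutator X = ⊤) (x : X) : x = 1 := by
  obtain ⟨n, hn⟩ := Group.IsSolvable.solvable (G := X)
  have : ∀ m, derivedSeries X m = ⊤ := by
    intro m
    induction m with
    | zero => rfl
    | succ m ih => rw [derivedSeries_succ, ih]; exact h
  have hx : x ∈ derivedSeries X n := this n ▸ Subgroup.mem_top x
  rwa [hn, Subgroup.mem_bot] at hx

/-- A perfect group acts trivially on at most four points. -/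
theorem fix_of_card_le_four {K : Subgroup (Perm α)} (hK : Cfsg.IsQuasisimple ↥K) {Δ : Finset α}
    (hinv : ∀ k ∈ K, ∀ z ∈ Δ, k z ∈ Δ) (hcard : Δ.card ≤ 4) : ∀ k ∈ K, ∀ z ∈ Δ, k z = z := by
  intro k hk z hz
  set f := restrictTo K Δ hinv with hf
  obtain ⟨emb⟩ : Nonempty (↥Δ ↪ Fin 4) :=
    Function.Embedding.nonempty_of_card_le (by simpa using hcard)
  haveI := CfsgLib.InvCharSmall.isSolvable_perm_four
  haveI : Group.IsSolvable ↥f.range := solvable_of_solvable_injective
    (f := (Perm.viaEmbeddingHom emb).comp f.range.subtype)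
    ((Perm.viaEmbeddingHom_injective emb).comp f.range.subtype_injective)
  have hperf : _root_.commutator ↥f.range = ⊤ := by
    rw [eq_top_iff]
    rintro ⟨y, u, rfl⟩ -
    have hu : u ∈ _root_.commutator ↥K := by
      rw [CfsgLib.Components.quasisimple_commutator_eq_top hK]; trivial
    have h1 : f.rangeRestrict u ∈ (_root_.commutator ↥K).map f.rangeRestrict := ⟨u, hu, rfl⟩
    rw [commutator_def, Subgroup.map_commutator] at h1
    exact (Subgroup.commutator_mono le_top le_top) h1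
  have h1 := eq_bot_of_solvable_perfect hperf (f.rangeRestrict ⟨k, hk⟩)
  have h2 : f ⟨k, hk⟩ = 1 := congrArg Subtype.val h1
  exact congrArg Subtype.val (DFunLike.congr_fun h2 ⟨z, hz⟩)

namespace Core

variable {H K : Subgroup (Perm α)}

theorem key (c : Core H K) (A : Subgroup (Perm α)) (hKA : ∀ k ∈ K, ∀ a ∈ A, k * a * k⁻¹ ∈ A)
    (hAH : A ≤ H) : K ≤ A ∨ ∀ k ∈ K, ∀ a ∈ A, k * a = a * k := by
  haveI : ((A ⊓ K).subgroupOf K).Normal := by
    refine (Subgroup.normal_subgroupOf_iff_le_normalizer inf_le_right).2 (le_normalizer_of_conj ?_)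
    exact fun k hk a ha => ⟨hKA k hk a ha.1, K.mul_mem (K.mul_mem hk ha.2) (K.inv_mem hk)⟩
  have hperf : ⁅K, K⁆ = K := by
    rw [← Subgroup.map_subtype_commutator K, CfsgLib.Components.quasisimple_commutator_eq_top c.qs,
      ← MonoidHom.range_eq_map, Subgroup.range_subtype]
  rcases CfsgLib.Components.quasisimple_normal_eq_top_or_le_center c.qs ((A ⊓ K).subgroupOf K)
    with e | e
  · exact Or.inl fun k hk => (show (⟨k, hk⟩ : ↥K) ∈ (A ⊓ K).subgroupOf K from
      e ▸ Subgroup.mem_top _).1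
  · right
    have h1 : ⁅K, A⁆ ≤ A ⊓ K := le_inf
      (Subgroup.commutator_le.2 fun k hk a ha => by
        rw [commutatorElement_def]
        exact A.mul_mem (hKA k hk a ha) (A.inv_mem ha))
      (Subgroup.commutator_le.2 fun k hk a ha => by
        rw [commutatorElement_def, show k * a * k⁻¹ * a⁻¹ = k * (a * k⁻¹ * a⁻¹) by group]
        exact K.mul_mem hk (c.norm a (hAH ha) _ (K.inv_mem hk)))
    have h2 : ⁅⁅K, A⁆, K⁆ = ⊥ := Subgroup.commutator_eq_bot_iff_le_centralizer.2 fun y hy =>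
      Subgroup.mem_centralizer_iff.2 fun k hk => congrArg Subtype.val
        (Subgroup.mem_center_iff.1 (e (show (⟨y, (h1 hy).2⟩ : ↥K) ∈ (A ⊓ K).subgroupOf K from h1 hy))
          ⟨k, hk⟩)
    exact fun k hk a ha => CfsgLib.Components.commute_of_commutator_eq_bot
      (CfsgLib.Components.commutator_eq_bot_of_perfect hperf h2) hk ha

theorem not_centralizes (c : Core H K) {x : Perm α} (hx : x ∈ H) (h1 : x ≠ 1) {Γ : Finset α}
    (hΓ : Γ.card ≤ 4) (hs : ∀ z ∉ Γ, x z = z) : ¬ ∀ k ∈ K, k * x = x * k := by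
  intro hc
  have hxK := c.cent x hx hc
  refine h1 (Equiv.ext fun z => ?_)
  by_cases hz : z ∈ x.support
  · refine fix_of_card_le_four c.qs (Δ := x.support) ?_ ?_ x hxK z hz
    · intro k hk w hw
      rw [Perm.mem_support] at hw ⊢
      intro e
      have := DFunLike.congr_fun (hc k hk) w
      simp only [Perm.mul_apply] at this
      exact hw (k.injective (this.trans e))
    · refine le_trans (Finset.card_le_card fun w hw => ?_) hΓ
      by_contra h
      exact Perm.mem_support.1 hw (hs w h)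
  · exact Perm.notMem_support.1 hz

/-- An element of small support fixing a `K`-invariant set forces `K` to fix it. -/
theorem fix_set (c : Core H K) {x : Perm α} (hx : x ∈ H) (hxc : ¬ ∀ k ∈ K, k * x = x * k)
    {Δ : Finset α} (hK : ∀ k ∈ K, ∀ z ∈ Δ, k z ∈ Δ) (hxΔ : ∀ z ∈ Δ, x z = z) :
    ∀ k ∈ K, ∀ z ∈ Δ, k z = z := by
  let A : Subgroup (Perm α) := H ⊓ fixingSubgroup (Perm α) (Δ : Set α)
  have hA : ∀ k ∈ K, ∀ a ∈ A, k * a * k⁻¹ ∈ A := by
    intro k hk a ha
    refine ⟨H.mul_mem (H.mul_mem (c.le hk) ha.1) (H.inv_mem (c.le hk)),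
      (mem_fixingSubgroup_iff (Perm α)).2 fun z hz => ?_⟩
    have h1 := (mem_fixingSubgroup_iff (Perm α)).1 ha.2 (k⁻¹ z) (hK _ (K.inv_mem hk) z hz)
    show k (a (k⁻¹ z)) = z
    rw [show a (k⁻¹ z) = k⁻¹ z from h1]
    exact k.apply_symm_apply z
  rcases c.key A hA inf_le_left with h | h
  · exact fun k hk z hz => (mem_fixingSubgroup_iff (Perm α)).1 (h hk).2 z hz
  · exact absurd (fun k hk => h k hk x ⟨hx, (mem_fixingSubgroup_iff (Perm α)).2 hxΔ⟩) hxc

theorem exists_moved (c : Core H K) : ∃ k ∈ K, ∃ z, k z ≠ z := by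
  haveI := CfsgLib.Components.quasisimple_nontrivial c.qs
  obtain ⟨⟨k, hk⟩, hne⟩ := exists_ne (1 : ↥K)
  by_contra hh
  push Not at hh
  exact hne (Subtype.ext (Equiv.ext fun z => hh k hk z))

theorem isPreprimitive (c : Core H K) (htr : ∀ u v : α, ∃ g ∈ H, g u = v) {Γ : Finset α}
    (hV : HasV H Γ) : MulAction.IsPreprimitive ↥H α := by
  classical
  haveI : MulAction.IsPretransitive ↥H α := ⟨fun u v => by
    obtain ⟨g, hg, h⟩ := htr u v; exact ⟨⟨g, hg⟩, h⟩⟩
  refine { isTrivialBlock_of_isBlock := fun {B} hB => ?_ }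
  by_contra hnt
  simp only [MulAction.IsTrivialBlock, not_or] at hnt
  obtain ⟨hns, hnu⟩ := hnt
  set Bf : Finset α := B.toFinset with hBf
  have hb2 : 2 ≤ Bf.card := by
    obtain ⟨u, hu, v, hv, huv⟩ := Set.not_subsingleton_iff.1 hns
    exact Finset.one_lt_card.2 ⟨u, Set.mem_toFinset.2 hu, v, Set.mem_toFinset.2 hv, huv⟩
  -- translates
  set Tr : Finset α → Prop := fun C => ∃ g ∈ H, Bf.image g = C with hTr
  have hTrim : ∀ C, Tr C → ∀ h ∈ H, Tr (C.image h) := by
    rintro _ ⟨g, hg, rfl⟩ h hh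
    exact ⟨h * g, H.mul_mem hh hg, by rw [Finset.image_image]; rfl⟩
  have hdis : ∀ C D, Tr C → Tr D → C ≠ D → Disjoint C D := by
    rintro _ _ ⟨g, hg, rfl⟩ ⟨g', hg', rfl⟩ hne
    have h1 : (⟨g, hg⟩ : ↥H) • B ≠ (⟨g', hg'⟩ : ↥H) • B := by
      intro e
      apply hne
      rw [← Finset.coe_inj, Finset.coe_image, Finset.coe_image, hBf, Set.coe_toFinset]
      exact e
    have h2 := hB h1
    rw [← Finset.disjoint_coe, Finset.coe_image, Finset.coe_image, hBf, Set.coe_toFinset]
    exact h2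
  have hcov : ∀ z, ∃ C, Tr C ∧ z ∈ C := by
    intro z
    obtain ⟨u, hu⟩ := Finset.card_pos.1 (by omega : 0 < Bf.card)
    obtain ⟨g, hg, e⟩ := htr u z
    exact ⟨_, ⟨g, hg, rfl⟩, Finset.mem_image.2 ⟨u, hu, e⟩⟩
  have hcard : ∀ C, Tr C → C.card = Bf.card := by
    rintro _ ⟨g, -, rfl⟩; exact Finset.card_image_of_injective _ g.injective
  have hmove : ∀ w ∈ H, (∀ z ∉ Γ, w z = z) → ∀ C, Tr C → C.image w ≠ C →
      C ⊆ Γ ∧ C.image w ⊆ Γ ∧ Disjoint C (C.image w) := by
    intro w hw hws C hC hne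
    have hd := hdis C _ hC (hTrim C hC w hw) (Ne.symm hne)
    have h1 : C ⊆ Γ := fun z hz => by
      by_contra h
      exact Finset.disjoint_left.1 hd hz (Finset.mem_image.2 ⟨z, hz, hws z h⟩)
    refine ⟨h1, fun z hz => ?_, hd⟩
    obtain ⟨u, hu, rfl⟩ := Finset.mem_image.1 hz
    by_contra h
    exact h (by rw [w.injective (hws _ h)]; exact h1 hu)
  let H₀ : Subgroup (Perm α) :=
    { carrier := {x | x ∈ H ∧ ∀ C, Tr C → C.image x = C}
      one_mem' := ⟨H.one_mem, fun C _ => by simp⟩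
      mul_mem' := fun {x y} hx hy => ⟨H.mul_mem hx.1 hy.1, fun C hC => by
        rw [Perm.coe_mul, ← Finset.image_image, hy.2 C hC, hx.2 C hC]⟩
      inv_mem' := fun {x} hx => ⟨H.inv_mem hx.1, fun C hC => by
        conv_lhs => rw [← hx.2 C hC]
        rw [Finset.image_image, ← Perm.coe_mul, inv_mul_cancel, Perm.coe_one, Finset.image_id]⟩ }
  obtain ⟨x, hx₀, hx1, hxs⟩ : ∃ x ∈ H₀, x ≠ 1 ∧ ∀ z ∉ Γ, x z = z := by
    obtain ⟨p, hp⟩ := Finset.card_pos.1 (by rw [hV.1]; norm_num : 0 < Γ.card)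
    obtain ⟨q, hq, hqp⟩ := Finset.exists_mem_ne (by rw [hV.1]; norm_num) p (s := Γ)
    obtain ⟨w, hw, hwp, hws⟩ := exists_move hV hp hq hqp.symm
    by_cases hall : ∀ C, Tr C → C.image w = C
    · refine ⟨w, ⟨hw, hall⟩, fun e => hqp ?_, hws⟩
      rw [← hwp, e]; rfl
    push Not at hall
    obtain ⟨C, hC, hne⟩ := hall
    obtain ⟨h1, h2, hd⟩ := hmove w hw hws C hC hne
    have hle := Finset.card_le_card (Finset.union_subset h1 h2)
    rw [Finset.card_union_of_disjoint hd, hcard C hC, hcard _ (hTrim C hC w hw), hV.1] at hle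
    have hC2 : C.card = 2 := by rw [hcard C hC]; omega
    have hΓ : C ∪ C.image w = Γ := Finset.eq_of_subset_of_card_le (Finset.union_subset h1 h2) (by
      rw [Finset.card_union_of_disjoint hd, Finset.card_image_of_injective _ w.injective, hC2, hV.1])
    obtain ⟨u, v, huv, hCe⟩ := Finset.card_eq_two.1 hC2
    have hu : u ∈ C := by simp [hCe]
    have hv : v ∈ C := by simp [hCe]
    obtain ⟨r, hr, s, hs, hrs, hur, hus, hvr, hvs, hall4⟩ := exists_pair_of_four hV.1 (h1 hu) (h1 hv) huv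
    have hrC : C.image w = {r, s} := by
      ext z
      constructor
      · intro hz
        rcases hall4 z (h2 hz) with rfl | rfl | rfl | rfl
        · exact absurd hz (Finset.disjoint_left.1 hd hu)
        · exact absurd hz (Finset.disjoint_left.1 hd hv)
        · simp
        · simp
      · intro hz
        have hzΓ : z ∈ C ∪ C.image w := by
          rw [hΓ]
          simp only [Finset.mem_insert, Finset.mem_singleton] at hz
          rcases hz with rfl | rfl <;> assumption
        rcases Finset.mem_union.1 hzΓ with h | h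
        · rw [hCe] at h
          simp only [Finset.mem_insert, Finset.mem_singleton] at h hz
          rcases h with rfl | rfl <;> rcases hz with rfl | rfl <;> simp_all
        · exact h
    have hys : ∀ z ∉ Γ, (swap u v * swap r s) z = z := fun z hz => by
      rw [Perm.mul_apply, swap_apply_of_ne_of_ne (fun e : z = r => hz (e ▸ hr)) (fun e : z = s => hz (e ▸ hs)),
        swap_apply_of_ne_of_ne (fun e : z = u => hz (e ▸ h1 hu)) (fun e : z = v => hz (e ▸ h1 hv))]
    have hyH : swap u v * swap r s ∈ H :=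
      hV.2 u (h1 hu) v (h1 hv) r hr s hs huv hrs hur hus hvr hvs
    refine ⟨swap u v * swap r s, ⟨hyH, fun D hD => ?_⟩, fun e => huv.symm ?_, hys⟩
    · by_contra hne'
      obtain ⟨g1, -, gd⟩ := hmove _ hyH hys D hD hne'
      obtain ⟨z, hz⟩ := Finset.card_pos.1 (by rw [hcard D hD]; omega : 0 < D.card)
      have hzΓ := g1 hz
      rw [← hΓ] at hzΓ
      rcases Finset.mem_union.1 hzΓ with h | h
      · obtain rfl : D = C := by
          by_contra e; exact Finset.disjoint_left.1 (hdis D C hD hC e) hz h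
        apply hne'
        rw [hCe]
        simp [swap_apply_of_ne_of_ne, hur, hus, hvr, hvs, Finset.pair_comm v u]
      · obtain rfl : D = C.image w := by
          by_contra e; exact Finset.disjoint_left.1 (hdis D _ hD (hTrim C hC w hw) e) hz h
        apply hne'
        rw [hrC]
        simp [swap_apply_of_ne_of_ne, hur.symm, hus.symm, hvr.symm, hvs.symm, Finset.pair_comm s r]
    · have := DFunLike.congr_fun e u
      rwa [Perm.mul_apply, swap_apply_of_ne_of_ne hur hus, swap_apply_left] at this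
  have hxc := c.not_centralizes hx₀.1 hx1 hV.1.le hxs
  have hK₀ : K ≤ H₀ := by
    refine (c.key H₀ ?_ fun y hy => hy.1).resolve_right fun h => hxc fun k hk => h k hk x hx₀
    intro k hk y hy
    refine ⟨H.mul_mem (H.mul_mem (c.le hk) hy.1) (H.inv_mem (c.le hk)), fun C hC => ?_⟩
    rw [Perm.coe_mul, ← Finset.image_image, Perm.coe_mul, ← Finset.image_image,
      hy.2 _ (hTrim C hC _ (H.inv_mem (c.le hk))), Finset.image_image, ← Perm.coe_mul,
      mul_inv_cancel, Perm.coe_one, Finset.image_id]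
  have hKinv : ∀ C, Tr C → ∀ k ∈ K, ∀ z ∈ C, k z ∈ C := fun C hC k hk z hz =>
    (hK₀ hk).2 C hC ▸ Finset.mem_image_of_mem _ hz
  obtain ⟨k₀, hk₀, z₀, hz₀⟩ := c.exists_moved
  have hb5 : 5 ≤ Bf.card := by
    obtain ⟨C, hC, hzC⟩ := hcov z₀
    by_contra h
    exact hz₀ (fix_of_card_le_four c.qs (hKinv C hC) (by rw [hcard C hC]; omega) k₀ hk₀ z₀ hzC)
  obtain ⟨p, hp⟩ := Finset.card_pos.1 (by rw [hV.1]; norm_num : 0 < Γ.card)
  obtain ⟨C, hC, hpC⟩ := hcov p
  have hΓC : Γ ⊆ C := by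
    intro q hq
    by_cases hqp : q = p
    · exact hqp ▸ hpC
    obtain ⟨w, hw, hwp, hws⟩ := exists_move hV hp hq (Ne.symm hqp)
    have hfixC : C.image w = C := by
      by_contra hne
      have := Finset.card_le_card (hmove w hw hws C hC hne).1
      rw [hcard C hC, hV.1] at this
      omega
    exact hfixC ▸ Finset.mem_image.2 ⟨p, hpC, hwp⟩
  obtain ⟨z, hz⟩ : ∃ z, z ∉ C := by
    by_contra hh
    push Not at hh
    obtain ⟨g, -, rfl⟩ := hC
    refine hnu (Set.eq_univ_of_forall fun v => ?_)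
    obtain ⟨u, hu, e⟩ := Finset.mem_image.1 (hh (g v))
    exact Set.mem_toFinset.1 (g.injective e ▸ hu)
  obtain ⟨D, hD, hzD⟩ := hcov z
  have hDC : Disjoint D C := hdis D C hD hC fun e => hz (e ▸ hzD)
  have hKD := c.fix_set hx₀.1 hxc (hKinv D hD) fun v hv =>
    hxs v fun h => Finset.disjoint_left.1 hDC hv (hΓC h)
  refine hz₀ ?_
  obtain ⟨g, hg, e⟩ := htr z z₀
  have h1 := hKD _ (c.norm g⁻¹ (H.inv_mem hg) k₀ hk₀) z hzD
  simp only [Perm.mul_apply, inv_inv] at h1
  rw [e] at h1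
  have h2 := congrArg g h1
  rw [e] at h2
  exact (g.apply_symm_apply _).symm.trans h2

end Core

end CfsgLib.LocalEven.AltOvergroup
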