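import Cfsg.Agent.Lib.LocalEven.AltOvergroup.Tetrads
import Mathlib.GroupTheory.Sylow
import Mathlib.GroupTheory.Perm.ViaEmbedding

/-!
A Sylow 2-subgroup of an alternating group contains conjugates of regular 2-groups inside any
invariant set that is large enough.
-/

set_option autoImplicit false

namespace CfsgLib.LocalEven.AltOvergroup

open Equiv

variable {α : Type*} [Fintype α] [DecidableEq α]

theorem exists_regular (P : Sylow 2 ↥(alternatingGroup α)) (R : Finset α)
    (hR : ∀ p ∈ (P : Subgroup ↥(alternatingGroup α)), ∀ z ∈ R, (p : Perm α) z ∈ R)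
    (G : Type) [Group G] [Fintype G] [DecidableEq G] (hG : IsPGroup 2 G)
    (hev : ∀ g : G, Perm.sign (MulAction.toPerm g : Perm G) = 1)
    (hcard : Fintype.card G ≤ R.card) :
    ∃ e : G ↪ α, (∀ u, e u ∈ R) ∧ ∀ g : G, ∃ x ∈ (P : Subgroup ↥(alternatingGroup α)),
      (∀ u, (x : Perm α) (e u) = e (g * u)) ∧ ∀ z ∉ Set.range e, (x : Perm α) z = z := by
  classical
  haveI : Fact (Nat.Prime 2) := ⟨Nat.prime_two⟩
  obtain ⟨e₁⟩ : Nonempty (G ↪ ↥R) :=
    Function.Embedding.nonempty_of_card_le (by rw [Fintype.card_coe]; exact hcard)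
  set e₀ : G ↪ α := e₁.trans (Function.Embedding.subtype _) with he₀
  have he₀R : ∀ u, e₀ u ∈ R := fun u => (e₁ u).2
  set ψ : G →* Perm α := (Perm.viaEmbeddingHom e₀).comp (MulAction.toPermHom G G) with hψ
  have hψe : ∀ g u, ψ g (e₀ u) = e₀ (g * u) := fun g u => by
    rw [hψ, MonoidHom.comp_apply, Perm.viaEmbeddingHom_apply, Perm.viaEmbedding_apply]
    rfl
  have hψout : ∀ g, ∀ z ∉ Set.range e₀, ψ g z = z := fun g z hz => by
    rw [hψ, MonoidHom.comp_apply, Perm.viaEmbeddingHom_apply,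
      Perm.viaEmbedding_apply_of_notMem _ _ _ hz]
  have hψR : ∀ g, ∀ z ∈ R, ψ g z ∈ R := by
    intro g z hz
    by_cases h : z ∈ Set.range e₀
    · obtain ⟨u, rfl⟩ := h; rw [hψe]; exact he₀R _
    · rwa [hψout g z h]
  have hψalt : ∀ g, ψ g ∈ alternatingGroup α := fun g => by
    rw [Perm.mem_alternatingGroup, hψ, MonoidHom.comp_apply, Perm.viaEmbeddingHom_apply,
      Perm.viaEmbedding, Perm.sign_extendDomain]
    exact hev g
  let M : Subgroup ↥(alternatingGroup α) :=
    { carrier := {g | ∀ z ∈ R, (g : Perm α) z ∈ R}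
      one_mem' := fun z hz => hz
      mul_mem' := fun {x y} hx hy z hz => hx _ (hy z hz)
      inv_mem' := fun {x} hx z hz => by
        have himg : R.image (x : Perm α) = R :=
          Finset.eq_of_subset_of_card_le (Finset.image_subset_iff.2 hx)
            (Finset.card_image_of_injective _ (x : Perm α).injective).ge
        rw [← himg] at hz
        obtain ⟨w, hw, rfl⟩ := Finset.mem_image.1 hz
        simpa using hw }
  let ψM : G →* ↥M :=
    { toFun := fun g => ⟨⟨ψ g, hψalt g⟩, hψR g⟩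
      map_one' := Subtype.ext (Subtype.ext (map_one ψ))
      map_mul' := fun a b => Subtype.ext (Subtype.ext (map_mul ψ a b)) }
  obtain ⟨Q, hQ⟩ := (hG.of_surjective ψM.rangeRestrict ψM.rangeRestrict_surjective).exists_le_sylow
  set P' : Sylow 2 ↥M := P.subtype (fun p hp => hR p hp) with hP'
  obtain ⟨m, hm⟩ := MulAction.exists_smul_eq ↥M Q P'
  set mm : Perm α := ((m : ↥(alternatingGroup α)) : Perm α) with hmm
  refine ⟨e₀.trans mm.toEmbedding, fun u => m.2 _ (he₀R u), fun g => ?_⟩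
  have h1 : MulAut.conj m (ψM g) ∈ (P' : Subgroup ↥M) := by
    rw [← hm, Sylow.smul_def]
    exact Subgroup.smul_mem_pointwise_smul _ _ _ (hQ ⟨g, rfl⟩)
  refine ⟨((MulAut.conj m (ψM g) : ↥M) : ↥(alternatingGroup α)), h1, fun u => ?_, fun z hz => ?_⟩
  · show (mm * ψ g * mm⁻¹) (mm (e₀ u)) = mm (e₀ (g * u))
    simp [hψe]
  · show (mm * ψ g * mm⁻¹) z = z
    have : mm⁻¹ z ∉ Set.range e₀ := by
      rintro ⟨u, hu⟩
      exact hz ⟨u, by show mm (e₀ u) = z; rw [hu]; exact mm.apply_symm_apply z⟩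
    rw [Perm.mul_apply, Perm.mul_apply, hψout g _ this]
    exact mm.apply_symm_apply z

/-- The four-group. -/
abbrev FourGroup := Multiplicative (ZMod 2) × Multiplicative (ZMod 2)

/-- The elementary abelian group of order 8. -/
abbrev EightGroup := Multiplicative (ZMod 2) × Multiplicative (ZMod 2) × Multiplicative (ZMod 2)

theorem isPGroup_four : IsPGroup 2 FourGroup :=
  IsPGroup.of_card (n := 2) (by simp [Nat.card_eq_fintype_card])

theorem isPGroup_eight : IsPGroup 2 EightGroup :=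
  IsPGroup.of_card (n := 3) (by simp [Nat.card_eq_fintype_card])

theorem sign_four : ∀ g : FourGroup, Perm.sign (MulAction.toPerm g : Perm FourGroup) = 1 := by
  decide +kernel

theorem sign_eight : ∀ g : EightGroup, Perm.sign (MulAction.toPerm g : Perm EightGroup) = 1 := by
  decide +kernel

set_option synthInstance.maxSize 2000 in
set_option synthInstance.maxHeartbeats 400000 in
theorem four_mul_aux : ∀ u v w t : FourGroup,
    u ≠ v ∧ w ≠ t ∧ u ≠ w ∧ u ≠ t ∧ v ≠ w ∧ v ≠ t →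
    v * u * w = t ∧ v * u * t = w ∧ ∀ s : FourGroup, s = u ∨ s = v ∨ s = w ∨ s = t := by
  decide +kernel

theorem four_sq : ∀ u v : FourGroup, v * u * u = v ∧ v * u * v = u := by
  decide +kernel

theorem four_mul (u v w t : FourGroup) (h₁ : u ≠ v) (h₂ : w ≠ t) (h₃ : u ≠ w) (h₄ : u ≠ t)
    (h₅ : v ≠ w) (h₆ : v ≠ t) : v * u * u = v ∧ v * u * v = u ∧ v * u * w = t ∧ v * u * t = w ∧
      ∀ s : FourGroup, s = u ∨ s = v ∨ s = w ∨ s = t := by
  obtain ⟨a, b, c⟩ := four_mul_aux u v w t ⟨h₁, h₂, h₃, h₄, h₅, h₆⟩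
  exact ⟨(four_sq u v).1, (four_sq u v).2, a, b, c⟩

theorem exists_hasV (P : Sylow 2 ↥(alternatingGroup α)) (H : Subgroup (Perm α))
    (hPH : (P : Subgroup ↥(alternatingGroup α)).map (alternatingGroup α).subtype ≤ H) (R : Finset α)
    (hR : ∀ p ∈ (P : Subgroup ↥(alternatingGroup α)), ∀ z ∈ R, (p : Perm α) z ∈ R)
    (hcard : 4 ≤ R.card) : ∃ Γ, Γ ⊆ R ∧ HasV H Γ := by
  classical
  obtain ⟨e, heR, he⟩ := exists_regular P R hR FourGroup isPGroup_four sign_four
    (by simpa using hcard)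
  refine ⟨Finset.univ.map e, fun z hz => ?_, by simp, ?_⟩
  · obtain ⟨u, -, rfl⟩ := Finset.mem_map.1 hz
    exact heR u
  simp only [Finset.mem_map, Finset.mem_univ, true_and, forall_exists_index]
  rintro _ u rfl _ v rfl _ w rfl _ t rfl huv hwt huw hut hvw hvt
  have hne : ∀ {a b : FourGroup}, e a ≠ e b → a ≠ b := fun h h' => h (congrArg e h')
  obtain ⟨h1, h2, h3, h4, h5⟩ := four_mul u v w t (hne huv) (hne hwt) (hne huw) (hne hut) (hne hvw) (hne hvt)
  obtain ⟨x, hxP, hxe, hxout⟩ := he (v * u)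
  suffices h : swap (e u) (e v) * swap (e w) (e t) = (x : Perm α) by
    rw [h]; exact hPH ⟨x, hxP, rfl⟩
  refine Equiv.ext fun z => ?_
  by_cases hz : z ∈ Set.range e
  · obtain ⟨s, rfl⟩ := hz
    rw [hxe, Perm.mul_apply]
    rcases h5 s with rfl | rfl | rfl | rfl
    · rw [h1, swap_apply_of_ne_of_ne huw hut, swap_apply_left]
    · rw [h2, swap_apply_of_ne_of_ne hvw hvt, swap_apply_right]
    · rw [h3, swap_apply_left, swap_apply_of_ne_of_ne hut.symm hvt.symm]
    · rw [h4, swap_apply_right, swap_apply_of_ne_of_ne huw.symm hvw.symm]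
  · rw [hxout z hz, Perm.mul_apply, swap_apply_of_ne_of_ne (fun h : z = e w => hz ⟨w, h.symm⟩)
      (fun h : z = e t => hz ⟨t, h.symm⟩), swap_apply_of_ne_of_ne (fun h : z = e u => hz ⟨u, h.symm⟩)
      (fun h : z = e v => hz ⟨v, h.symm⟩)]

end CfsgLib.LocalEven.AltOvergroup
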