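import Cfsg.Agent.Lib.LocalEven.AltOvergroup.Primitive
import Cfsg.Agent.Lib.LocalEven.AltOvergroup.Core
import Cfsg.Agent.Lib.LocalEven.AltOvergroup.Sylow

/-!
Overgroups of a Sylow 2-subgroup of an alternating group with quasisimple generalized Fitting
subgroup.
-/

set_option autoImplicit false

namespace CfsgLib.LocalEven.AltOvergroup

open Equiv

variable {α : Type*} [Fintype α] [DecidableEq α]

theorem dt_ne_one {a b c d : α} (hab : a ≠ b) (hac : a ≠ c) (had : a ≠ d) :
    swap a b * swap c d ≠ 1 := fun e => hab.symm (by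
  have := DFunLike.congr_fun e a
  rwa [Perm.mul_apply, swap_apply_of_ne_of_ne hac had, swap_apply_left] at this)

theorem HasV.exists_ne_one {H : Subgroup (Perm α)} {Γ : Finset α} (h : HasV H Γ) :
    ∃ x ∈ H, x ≠ 1 ∧ ∀ z ∉ Γ, x z = z := by
  obtain ⟨p, hp⟩ := Finset.card_pos.1 (by rw [h.1]; norm_num : 0 < Γ.card)
  obtain ⟨q, hq, hqp⟩ := Finset.exists_mem_ne (by rw [h.1]; norm_num) p (s := Γ)
  obtain ⟨w, hw, hwp, hws⟩ := exists_move h hp hq hqp.symm
  exact ⟨w, hw, fun e => hqp (by rw [← hwp, e]; rfl), hws⟩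

theorem main {H K : Subgroup (Perm α)} (c : Core H K) (P : Sylow 2 ↥(alternatingGroup α))
    (hPH : (P : Subgroup ↥(alternatingGroup α)).map (alternatingGroup α).subtype ≤ H)
    (h8 : 8 ≤ Fintype.card α) :
    ∃ O : Finset α, Fintype.card α ≤ O.card + 3 ∧
      Nonempty (↥K ≃* ↥(alternatingGroup ↥O)) := by
  classical
  have hPg : ∀ p ∈ (P : Subgroup ↥(alternatingGroup α)), (p : Perm α) ∈ H := fun p hp => hPH ⟨p, hp, rfl⟩
  set orb : α → Finset α := fun z => Finset.univ.filter (fun w => ∃ h ∈ H, h z = w) with horb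
  have hmem_orb : ∀ z w, w ∈ orb z ↔ ∃ h ∈ H, h z = w := fun z w => by simp [horb]
  have horbinv : ∀ z, ∀ g ∈ H, ∀ w ∈ orb z, g w ∈ orb z := by
    intro z g hg w hw
    obtain ⟨h, hh, rfl⟩ := (hmem_orb z w).1 hw
    exact (hmem_orb z _).2 ⟨g * h, H.mul_mem hg hh, rfl⟩
  have hself : ∀ z, z ∈ orb z := fun z => (hmem_orb z z).2 ⟨1, H.one_mem, rfl⟩
  obtain ⟨k₀, hk₀, z₀, hz₀⟩ := c.exists_moved
  set O := orb z₀ with hO
  have hO5 : ∀ k ∈ K, ∀ z, k z ≠ z → 5 ≤ (orb z).card := by
    intro k hk z hz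
    by_contra h
    exact hz (fix_of_card_le_four c.qs (fun l hl w hw => horbinv z l (c.le hl) w hw) (by omega) k hk z
      (hself z))
  obtain ⟨Γ, hΓO, hΓ⟩ := exists_hasV P H hPH O (fun p hp => horbinv z₀ _ (hPg p hp))
    (by have := hO5 k₀ hk₀ z₀ hz₀; rw [← hO] at this; omega)
  obtain ⟨x, hxH, hx1, hxs⟩ := hΓ.exists_ne_one
  have hxc := c.not_centralizes hxH hx1 hΓ.1.le hxs
  have hfixR : ∀ k ∈ K, ∀ z ∉ O, k z = z := by
    intro k hk z hz
    by_contra hne
    have hdis : ∀ w ∈ orb z, w ∉ Γ := fun w hw hwΓ => by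
      obtain ⟨g, hg, rfl⟩ := (hmem_orb z w).1 hw
      apply hz
      have := horbinv z₀ g⁻¹ (H.inv_mem hg) _ (hΓO hwΓ)
      simpa using this
    exact hne (c.fix_set hxH hxc (fun l hl w hw => horbinv z l (c.le hl) w hw)
      (fun w hw => hxs w (hdis w hw)) k hk z (hself z))
  set R := Oᶜ with hR
  have hRinv : ∀ g ∈ H, ∀ z ∈ R, g z ∈ R := by
    intro g hg z hz
    rw [hR, Finset.mem_compl] at hz ⊢
    intro h
    apply hz
    have := horbinv z₀ g⁻¹ (H.inv_mem hg) _ h
    simpa using this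
  have hR3 : R.card ≤ 3 := by
    by_contra h
    obtain ⟨Δ, hΔR, hΔ⟩ := exists_hasV P H hPH R (fun p hp => hRinv _ (hPg p hp)) (by omega)
    obtain ⟨y, hyH, hy1, hys⟩ := hΔ.exists_ne_one
    refine c.not_centralizes hyH hy1 hΔ.1.le hys fun k hk => ?_
    refine (Perm.Disjoint.commute fun z => ?_).eq
    by_cases hzR : z ∈ R
    · exact Or.inl (hfixR k hk z (by simpa [hR] using hzR))
    · exact Or.inr (hys z fun hzΔ => hzR (hΔR hzΔ))
  have hOR : O.card + R.card = Fintype.card α := Finset.card_add_card_compl O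
  have hO8 : 8 ≤ O.card := by
    obtain ⟨e, -, he⟩ := exists_regular P Finset.univ (fun _ _ _ _ => Finset.mem_univ _) EightGroup
      isPGroup_eight sign_eight (by simpa using h8)
    have hsub : ∀ u, e u ∈ O := by
      intro u
      by_contra hu
      have hall : Finset.univ.map e ⊆ R := by
        intro z hz
        obtain ⟨v, -, rfl⟩ := Finset.mem_map.1 hz
        obtain ⟨p, hp, hpe, -⟩ := he (v * u⁻¹)
        have := hRinv _ (hPg p hp) (e u) (by simpa [hR] using hu)
        rwa [hpe, inv_mul_cancel_right] at this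
      have := Finset.card_le_card hall
      simp at this
      omega
    have := Finset.card_le_card (show Finset.univ.map e ⊆ O from fun z hz => by
      obtain ⟨v, -, rfl⟩ := Finset.mem_map.1 hz; exact hsub v)
    simpa using this
  refine ⟨O, by omega, ?_⟩
  -- restriction to `O`
  set f := restrictTo H O (horbinv z₀) with hf
  have hfapp : ∀ (g : ↥H) (z : ↥O), (f g z : α) = (g : Perm α) z := fun g z => rfl
  have hinj : Function.Injective f := by
    rw [← MonoidHom.ker_eq_bot_iff, Subgroup.eq_bot_iff_forall]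
    intro g hg
    have hfix : ∀ z ∈ O, (g : Perm α) z = z := fun z hz => by
      rw [← hfapp g ⟨z, hz⟩, MonoidHom.mem_ker.1 hg]; rfl
    have hgK : (g : Perm α) ∈ K := c.cent _ g.2 fun k hk => by
      refine (Perm.Disjoint.commute fun z => ?_).eq
      by_cases hz : z ∈ O
      · exact Or.inr (hfix z hz)
      · exact Or.inl (hfixR k hk z hz)
    refine Subtype.ext (Equiv.ext fun z => ?_)
    by_cases hz : z ∈ O
    · exact hfix z hz
    · exact hfixR _ hgK z hz
  set H' := f.range with hH'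
  set K' := (K.subgroupOf H).map f with hK'
  have eK : ↥K ≃* ↥K' := (Subgroup.subgroupOfEquivOfLe c.le).symm.trans
    ((K.subgroupOf H).equivMapOfInjective f hinj)
  have c' : Core H' K' :=
    { le := Subgroup.map_le_range _ _
      norm := by
        rintro _ ⟨g, rfl⟩ _ ⟨k, hk, rfl⟩
        exact ⟨g * k * g⁻¹, c.norm g g.2 k hk, by rw [map_mul, map_mul, map_inv]⟩
      qs := CfsgLib.Components.isQuasisimple_of_mulEquiv c.qs eK
      cent := by
        rintro _ ⟨g, rfl⟩ hg
        refine ⟨g, c.cent g g.2 fun k hk => ?_, rfl⟩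
        have := hg (f ⟨k, c.le hk⟩) ⟨⟨k, c.le hk⟩, hk, rfl⟩
        rw [← map_mul, ← map_mul] at this
        exact congrArg Subtype.val (hinj this) }
  have htr : ∀ u v : ↥O, ∃ g ∈ H', g u = v := by
    intro u v
    obtain ⟨g, hg, e1⟩ := (hmem_orb z₀ u).1 u.2
    obtain ⟨g', hg', e2⟩ := (hmem_orb z₀ v).1 v.2
    refine ⟨f ⟨g' * g⁻¹, H.mul_mem hg' (H.inv_mem hg)⟩, ⟨_, rfl⟩, Subtype.ext ?_⟩
    rw [hfapp]
    show g' (g⁻¹ (u : α)) = v
    rw [← e1, ← e2]
    simp
  have hV' : HasV H' (Γ.subtype (· ∈ O)) := by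
    refine ⟨?_, ?_⟩
    · rw [Finset.card_subtype, Finset.filter_true_of_mem fun z hz => hΓO hz, hΓ.1]
    intro a ha b hb p hp q hq hab hpq hap haq hbp hbq
    rw [Finset.mem_subtype] at ha hb hp hq
    have hne : ∀ {u v : ↥O}, u ≠ v → (u : α) ≠ v := fun h h' => h (Subtype.ext h')
    refine ⟨⟨_, hΓ.2 a ha b hb p hp q hq (hne hab) (hne hpq) (hne hap) (hne haq) (hne hbp) (hne hbq)⟩,
      Equiv.ext fun z => Subtype.ext ?_⟩
    rw [hfapp]
    simp only [Perm.mul_apply, swap_apply_def, Subtype.ext_iff]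
    split_ifs <;> simp_all
  have hprim := c'.isPreprimitive htr hV'
  have h8' : 8 ≤ Fintype.card ↥O := by simpa using hO8
  have h64 : Fintype.card ↥O = 8 → 64 ∣ Nat.card ↥H' := by
    intro hO'
    simp only [Fintype.card_coe] at hO'
    haveI : Fact (Nat.Prime 2) := ⟨Nat.prime_two⟩
    have h1 : 2 ^ 6 ∣ Nat.card ↥(alternatingGroup α) := by
      have h2 : 2 * Nat.card ↥(alternatingGroup α) = (Fintype.card α).factorial := by
        haveI : Nontrivial α := Fintype.one_lt_card_iff_nontrivial.1 (by omega)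
        rw [two_mul_nat_card_alternatingGroup, Nat.card_perm, Nat.card_eq_fintype_card]
      have h3 : 128 ∣ (Fintype.card α).factorial :=
        (show (128 : ℕ) ∣ Nat.factorial 8 by decide).trans (Nat.factorial_dvd_factorial h8)
      omega
    have h4 := P.pow_dvd_card_of_pow_dvd_card h1
    have h5 : 2 ^ 6 ∣ Nat.card ↥H := (h4.trans (Nat.card_congr
      ((P : Subgroup ↥(alternatingGroup α)).equivMapOfInjective _
        (alternatingGroup α).subtype_injective).toEquiv).dvd).trans (Subgroup.card_dvd_of_le hPH)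
    exact h5.trans (Nat.card_congr (MonoidHom.ofInjective hinj).toEquiv).dvd
  haveI := CfsgLib.Components.quasisimple_nontrivial c'.qs
  rcases alt_le_or_exists_abelian_normal hprim hV' h8' h64 with hA | ⟨E, hEH, hEne, hEn, hEab⟩
  · haveI : IsSimpleGroup ↥(alternatingGroup ↥O) :=
      alternatingGroup.isSimpleGroup (by rw [Nat.card_eq_fintype_card]; omega)
    have hKA : K' ≤ alternatingGroup ↥O := by
      intro k hk
      have hu : (⟨k, hk⟩ : ↥K') ∈ (Perm.sign.comp K'.subtype).ker := by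
        have := Abelianization.commutator_subset_ker (Perm.sign.comp K'.subtype)
        rw [CfsgLib.Components.quasisimple_commutator_eq_top c'.qs] at this
        exact this trivial
      exact Perm.mem_alternatingGroup.2 hu
    haveI hn : (K'.subgroupOf (alternatingGroup ↥O)).Normal :=
      ⟨fun k hk a => c'.norm a (hA a.2) k hk⟩
    rcases hn.eq_bot_or_eq_top with e | e
    · exfalso
      obtain ⟨k, hk⟩ := exists_ne (1 : ↥K')
      have h1 : (⟨k, hKA k.2⟩ : ↥(alternatingGroup ↥O)) = 1 :=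
        (Subgroup.eq_bot_iff_forall _).1 e _ k.2
      have h2 : ((k : ↥K') : Perm ↥O) = 1 := congrArg Subtype.val h1
      exact hk (Subtype.ext h2)
    · have : K' = alternatingGroup ↥O := le_antisymm hKA (Subgroup.subgroupOf_eq_top.1 e)
      exact ⟨eK.trans (MulEquiv.subgroupCongr this)⟩
  exfalso
  rcases c'.key E (fun k hk e he => hEn k (c'.le hk) e he) hEH with hKE | hcomm
  · apply CfsgLib.Components.quasisimple_not_isMulCommutative c'.qs
    exact ⟨⟨fun a b => Subtype.ext (hEab a (hKE a.2) b (hKE b.2))⟩⟩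
  haveI hne : (E.subgroupOf H').Normal := ⟨fun e he g => hEn g g.2 e he⟩
  have hfp : MulAction.fixedPoints ↥(E.subgroupOf H') ↥O ≠ Set.univ := by
    intro h
    refine hEne ((Subgroup.eq_bot_iff_forall _).2 fun e he => Equiv.ext fun z => ?_)
    have hz : z ∈ MulAction.fixedPoints ↥(E.subgroupOf H') ↥O := h ▸ Set.mem_univ z
    exact hz ⟨⟨e, hEH he⟩, he⟩
  haveI := hprim
  haveI := MulAction.IsQuasiPreprimitive.isPretransitive_of_normal (N := E.subgroupOf H') hfp
  -- `K'` centralizes a transitive abelian group, so lies in it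
  have hKE : K' ≤ E := by
    intro k hk
    obtain ⟨o⟩ : Nonempty ↥O := Fintype.card_pos_iff.1 (by omega)
    obtain ⟨⟨⟨e, heH⟩, he⟩, heo⟩ := MulAction.exists_smul_eq ↥(E.subgroupOf H') o (k o)
    suffices k = e by rw [this]; exact he
    refine Equiv.ext fun z => ?_
    obtain ⟨⟨⟨e', he'H⟩, he'⟩, rfl⟩ := MulAction.exists_smul_eq ↥(E.subgroupOf H') o z
    show k (e' o) = e (e' o)
    have h1 := DFunLike.congr_fun (hcomm k hk e' he') o
    have h2 := DFunLike.congr_fun (hEab e he e' he') o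
    simp only [Perm.mul_apply] at h1 h2
    have h3 : e o = k o := heo
    rw [h1, h2, h3]
  apply CfsgLib.Components.quasisimple_not_isMulCommutative c'.qs
  exact ⟨⟨fun a b => Subtype.ext (hEab a (hKE a.2) b (hKE b.2))⟩⟩

end CfsgLib.LocalEven.AltOvergroup
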