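import Cfsg.Agent.Lib.LocalEven.AltOvergroup.Tetrads
import Mathlib.GroupTheory.Sylow

/-!
A primitive group with a regular four-group on four points and order divisible by 64
either contains the alternating group or has a nontrivial abelian normal subgroup.
-/

set_option autoImplicit false

namespace CfsgLib.LocalEven.AltOvergroup

open Equiv

variable {α : Type*} [Fintype α] [DecidableEq α]

theorem two_transitive {H : Subgroup (Perm α)} (hprim : MulAction.IsPreprimitive ↥H α) {Γ : Finset α}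
    (hV : HasV H Γ) (h8 : 8 ≤ Fintype.card α) :
    ∀ a b c d : α, a ≠ b → c ≠ d → ∃ g ∈ H, g a = c ∧ g b = d := by
  have hs : ((Γᶜ : Finset α) : Set α).ncard = (Fintype.card α - 5) + 1 := by
    rw [Set.ncard_coe_finset, Finset.card_compl, hV.1]; omega
  have htr : MulAction.IsPretransitive (fixingSubgroup ↥H ((Γᶜ : Finset α) : Set α))
      (SubMulAction.ofFixingSubgroup ↥H ((Γᶜ : Finset α) : Set α)) := by
    refine ⟨fun x y => ?_⟩
    have hx : (x : α) ∈ Γ := by
      have := (SubMulAction.mem_ofFixingSubgroup_iff _).1 x.2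
      simpa using this
    have hy : (y : α) ∈ Γ := by
      have := (SubMulAction.mem_ofFixingSubgroup_iff _).1 y.2
      simpa using this
    by_cases hxy : x = y
    · exact ⟨1, by rw [hxy, one_smul]⟩
    · obtain ⟨g, hg, hgx, hgout⟩ := exists_move hV hx hy fun e => hxy (Subtype.ext e)
      refine ⟨⟨⟨g, hg⟩, (mem_fixingSubgroup_iff ↥H).2 fun z hz => ?_⟩, Subtype.ext hgx⟩
      exact hgout z (by simpa using hz)
  have h2 := hprim.is_two_pretransitive hs (by rw [Nat.card_eq_fintype_card]; omega) htr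
  rw [MulAction.is_two_pretransitive_iff] at h2
  intro a b c d hab hcd
  obtain ⟨⟨g, hg⟩, h⟩ := h2 hab hcd
  exact ⟨g, hg, h.1, h.2⟩

theorem alt_le_or_exists_abelian_normal {H : Subgroup (Perm α)}
    (hprim : MulAction.IsPreprimitive ↥H α) {Γ : Finset α} (hV : HasV H Γ)
    (h8 : 8 ≤ Fintype.card α) (h64 : Fintype.card α = 8 → 64 ∣ Nat.card ↥H) :
    alternatingGroup α ≤ H ∨ ∃ E : Subgroup (Perm α), E ≤ H ∧ E ≠ ⊥ ∧
      (∀ g ∈ H, ∀ e ∈ E, g * e * g⁻¹ ∈ E) ∧ ∀ x ∈ E, ∀ y ∈ E, x * y = y * x := by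
  classical
  by_cases hA : alternatingGroup α ≤ H
  · exact Or.inl hA
  right
  have h2 := two_transitive hprim hV h8
  have hev : ∀ S T : Finset α, HasV H S → HasV H T → Even (S ∩ T).card := by
    intro S T hS hT
    by_contra hodd
    obtain ⟨σ, hσH, hσ⟩ := threeCycle_of_odd hS hT (Nat.not_even_iff_odd.1 hodd)
    exact hA (Equiv.Perm.alternatingGroup_le_of_isPreprimitive_of_isThreeCycle_mem hprim hσ hσH)
  set F₀ : Finset (Finset α) := Finset.univ.filter (fun S => HasV H S) with hF₀
  obtain ⟨a⟩ : Nonempty α := Fintype.card_pos_iff.1 (by omega)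
  have hle := (card_le_eight H h2 F₀ (fun S hS => (Finset.mem_filter.1 hS).2.1)
    (fun S hS T hT => hev S T (Finset.mem_filter.1 hS).2 (Finset.mem_filter.1 hT).2)
    (fun g hg S hS => Finset.mem_filter.2 ⟨Finset.mem_univ _, hasV_image (Finset.mem_filter.1 hS).2 hg⟩)
    ⟨Γ, Finset.mem_filter.2 ⟨Finset.mem_univ _, hV⟩⟩ a).1
  have hcard : Fintype.card α = 8 := by omega
  set F : Finset (Finset α) := Finset.univ.filter (fun S => HasV H S ∨ HasV H Sᶜ) with hF
  have hmemF : ∀ S, S ∈ F ↔ HasV H S ∨ HasV H Sᶜ := fun S => by simp [hF]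
  have h4 : ∀ S ∈ F, S.card = 4 := by
    intro S hS
    rcases (hmemF S).1 hS with h | h
    · exact h.1
    · have := h.1
      rw [Finset.card_compl] at this
      omega
  have hco : ∀ S ∈ F, Sᶜ ∈ F := fun S hS => (hmemF _).2 (by rw [compl_compl]; exact ((hmemF S).1 hS).symm)
  have himc : ∀ (g : Perm α) (S : Finset α), Sᶜ.image g = (S.image g)ᶜ := fun g S => by
    ext x
    simp only [Finset.mem_image, Finset.mem_compl]
    constructor
    · rintro ⟨y, hy, rfl⟩ ⟨z, hz, e⟩
      exact hy (g.injective e ▸ hz)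
    · intro h
      exact ⟨g⁻¹ x, fun hx => h ⟨_, hx, g.apply_symm_apply x⟩, g.apply_symm_apply x⟩
  have hinv : ∀ g ∈ H, ∀ S ∈ F, S.image g ∈ F := by
    intro g hg S hS
    refine (hmemF _).2 (((hmemF S).1 hS).imp (fun h => hasV_image h hg) fun h => ?_)
    rw [← himc]; exact hasV_image h hg
  have hsplit : ∀ S T : Finset α, T.card = 4 → (Sᶜ ∩ T).card + (S ∩ T).card = 4 := fun S T hT => by
    rw [show Sᶜ ∩ T = T \ S by ext; simp [and_comm], ← hT, Finset.inter_comm,
      Finset.card_sdiff_add_card_inter]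
  have hflip : ∀ S T : Finset α, T.card = 4 → Even (Sᶜ ∩ T).card → Even (S ∩ T).card := by
    intro S T hT ⟨k, hk⟩
    have := hsplit S T hT
    exact ⟨2 - k, by omega⟩
  have hev' : ∀ S ∈ F, ∀ T ∈ F, Even (S ∩ T).card := by
    have h1 : ∀ S T, HasV H S → T ∈ F → Even (S ∩ T).card := by
      intro S T hS hT
      rcases (hmemF T).1 hT with h | h
      · exact hev S T hS h
      · rw [Finset.inter_comm]
        exact hflip T S hS.1 (hev Tᶜ S h hS)
    intro S hS T hT
    rcases (hmemF S).1 hS with h | h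
    · exact h1 S T h hT
    · exact hflip S T (h4 T hT) (h1 Sᶜ T h hT)
  have hFne : Γ ∈ F := (hmemF Γ).2 (Or.inl hV)
  have h7 := (card_le_eight H h2 F h4 hev' hinv ⟨Γ, hFne⟩ a).2 hcard
  set X := {S : Finset α // S ∈ F ∧ a ∈ S} with hX
  haveI : Fintype X := Fintype.ofFinset (F.filter (a ∈ ·)) fun S => by simp; rfl
  have hX7 : Nat.card X = 7 := by
    rw [← h7, Nat.card_eq_fintype_card]
    exact Fintype.card_of_subtype _ fun S => by simp
  -- the action on partitions into two quadruples, indexed by the part through `a`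
  set act : ↥H → Finset α → Finset α := fun g S =>
    if a ∈ S.image (g : Perm α) then S.image (g : Perm α) else (S.image (g : Perm α))ᶜ with hact
  have hmem : ∀ (g : ↥H) (S : X), act g S ∈ F ∧ a ∈ act g S := by
    intro g S
    simp only [hact]
    split_ifs with h
    · exact ⟨hinv g g.2 S S.2.1, h⟩
    · exact ⟨hco _ (hinv g g.2 S S.2.1), Finset.mem_compl.2 h⟩
  have hmul : ∀ (g g' : ↥H) (S : Finset α), act (g * g') S = act g (act g' S) := by
    intro g g' S
    have e : (S.image (g' : Perm α)).image (g : Perm α) = S.image ((g * g' : ↥H) : Perm α) := by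
      rw [Finset.image_image]; rfl
    simp only [hact, ← e]
    by_cases h1 : a ∈ S.image (g' : Perm α)
    · simp only [h1, if_true]
    · simp only [h1, if_false, himc]
      by_cases h3 : a ∈ (S.image (g' : Perm α)).image (g : Perm α)
      · simp [h3]
      · simp [h3]
  have hone : ∀ S : X, act 1 S = S := fun S => by simp [hact, S.2.2]
  let φ : ↥H →* Perm X :=
    { toFun := fun g =>
        { toFun := fun S => ⟨act g S, hmem g S⟩
          invFun := fun S => ⟨act g⁻¹ S, hmem g⁻¹ S⟩
          left_inv := fun S => Subtype.ext (by show act g⁻¹ (act g S) = (S : Finset α); rw [← hmul, inv_mul_cancel, hone])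
          right_inv := fun S => Subtype.ext (by show act g (act g⁻¹ S) = (S : Finset α); rw [← hmul, mul_inv_cancel, hone]) }
      map_one' := Equiv.ext fun S => Subtype.ext (hone S)
      map_mul' := fun g g' => Equiv.ext fun S => Subtype.ext (hmul g g' S) }
  have hker : φ.ker ≠ ⊥ := by
    intro hb
    have h1 : Nat.card ↥H ∣ Nat.card (Perm X) :=
      (Nat.card_congr (MonoidHom.ofInjective ((MonoidHom.ker_eq_bot_iff φ).1 hb)).toEquiv).dvd.trans
        (Subgroup.card_subgroup_dvd_card _)
    rw [Nat.card_perm, hX7] at h1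
    have := (h64 hcard).trans h1
    norm_num [Nat.factorial] at this
  have hfix : ∀ g ∈ φ.ker, ∀ S ∈ F, S.image (g : Perm α) = S ∨ S.image (g : Perm α) = Sᶜ := by
    intro g hg S hS
    have key : ∀ T : X, (T : Finset α).image (g : Perm α) = T ∨
        (T : Finset α).image (g : Perm α) = (T : Finset α)ᶜ := by
      intro T
      have h : act g T = T := congrArg Subtype.val (DFunLike.congr_fun (MonoidHom.mem_ker.1 hg) T)
      simp only [hact] at h
      split_ifs at h with h'
      · exact Or.inl h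
      · exact Or.inr (by rw [← h, compl_compl, h])
    by_cases haS : a ∈ S
    · exact key ⟨S, hS, haS⟩
    · have := key ⟨Sᶜ, hco S hS, Finset.mem_compl.2 haS⟩
      simp only [himc, compl_compl] at this
      rcases this with e | e
      · exact Or.inl (compl_inj_iff.1 e)
      · exact Or.inr (compl_injective (by rw [e, compl_compl]))
  have hsq : ∀ g ∈ φ.ker, g * g = 1 := by
    intro g hg
    refine Subtype.ext (Equiv.ext fun q => ?_)
    show (g : Perm α) ((g : Perm α) q) = q
    by_contra hne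
    obtain ⟨p, hp, p', hp', hpp'⟩ : ∃ p ∈ Γ, ∃ p', p' ∉ Γ ∧ p ≠ p' := by
      obtain ⟨p, hp⟩ := Finset.card_pos.1 (by rw [hV.1]; norm_num : 0 < Γ.card)
      obtain ⟨p', hp'⟩ := Finset.card_pos.1 (by rw [Finset.card_compl, hV.1]; omega : 0 < Γᶜ.card)
      rw [Finset.mem_compl] at hp'
      exact ⟨p, hp, p', hp', fun e => hp' (e ▸ hp)⟩
    obtain ⟨u, hu, hu1, hu2⟩ := h2 p p' q _ hpp' (Ne.symm hne)
    set S := Γ.image u with hS
    have hqS : q ∈ S := Finset.mem_image.2 ⟨p, hp, hu1⟩
    have hnS : (g : Perm α) ((g : Perm α) q) ∉ S := by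
      rw [hS, Finset.mem_image]
      rintro ⟨z, hz, e⟩
      exact hp' ((u.injective (e.trans hu2.symm)) ▸ hz)
    apply hnS
    have hSF : S ∈ F := hinv u hu Γ hFne
    have h1 : (S.image (g : Perm α)).image (g : Perm α) = S := by
      rcases hfix g hg S hSF with e | e
      · rw [e, e]
      · rw [e, himc, e, compl_compl]
    exact h1 ▸ Finset.mem_image_of_mem _ (Finset.mem_image_of_mem _ hqS)
  have hN : φ.ker.Normal := φ.normal_ker
  generalize φ.ker = N at hker hsq hN
  refine ⟨N.map H.subtype, Subgroup.map_subtype_le _, ?_, ?_, ?_⟩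
  · rwa [Ne, Subgroup.map_eq_bot_iff_of_injective _ H.subtype_injective]
  · rintro g hg _ ⟨e, he, rfl⟩
    exact ⟨⟨g, hg⟩ * e * ⟨g, hg⟩⁻¹, hN.conj_mem e he _, rfl⟩
  · rintro _ ⟨x, hx, rfl⟩ _ ⟨y, hy, rfl⟩
    have inv_eq : ∀ z ∈ N, z⁻¹ = z := fun z hz => inv_eq_of_mul_eq_one_right (hsq z hz)
    have := inv_eq _ (N.mul_mem hx hy)
    rw [mul_inv_rev, inv_eq x hx, inv_eq y hy] at this
    exact congrArg Subtype.val this.symm

end CfsgLib.LocalEven.AltOvergroup
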