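import Mathlib.GroupTheory.GroupAction.Jordan
import Mathlib.GroupTheory.SpecificGroups.Alternating
import Mathlib.GroupTheory.Perm.Cycle.Type

/-!
Primitive groups containing a four-group that is regular on four points and fixes the others.
-/

set_option autoImplicit false

namespace CfsgLib.LocalEven.AltOvergroup

open Equiv

variable {α : Type*} [Fintype α] [DecidableEq α]

/-- `H` contains the double transpositions on the four points of `Γ`. -/
def HasV (H : Subgroup (Perm α)) (Γ : Finset α) : Prop :=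
  Γ.card = 4 ∧ ∀ a ∈ Γ, ∀ b ∈ Γ, ∀ c ∈ Γ, ∀ d ∈ Γ, a ≠ b → c ≠ d → a ≠ c → a ≠ d → b ≠ c → b ≠ d →
    swap a b * swap c d ∈ H

theorem swap_conj (g : Perm α) (a b : α) : g * swap a b * g⁻¹ = swap (g a) (g b) := by
  rw [Equiv.mul_swap_eq_swap_mul, mul_inv_cancel_right]

theorem hasV_image {H : Subgroup (Perm α)} {Γ : Finset α} (h : HasV H Γ) {g : Perm α} (hg : g ∈ H) :
    HasV H (Γ.image g) := by
  refine ⟨by rw [Finset.card_image_of_injective _ g.injective]; exact h.1, ?_⟩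
  simp only [Finset.forall_mem_image]
  intro a ha b hb c hc d hd hab hcd hac had hbc hbd
  have h1 := h.2 a ha b hb c hc d hd (fun e => hab (congrArg g e)) (fun e => hcd (congrArg g e))
    (fun e => hac (congrArg g e)) (fun e => had (congrArg g e)) (fun e => hbc (congrArg g e))
    (fun e => hbd (congrArg g e))
  have h2 := H.mul_mem (H.mul_mem hg h1) (H.inv_mem hg)
  rwa [show g * (swap a b * swap c d) * g⁻¹ = (g * swap a b * g⁻¹) * (g * swap c d * g⁻¹) by group,
    swap_conj, swap_conj] at h2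

theorem exists_pair_of_four {Γ : Finset α} (h : Γ.card = 4) {a b : α} (ha : a ∈ Γ) (hb : b ∈ Γ)
    (hab : a ≠ b) : ∃ c ∈ Γ, ∃ d ∈ Γ, c ≠ d ∧ a ≠ c ∧ a ≠ d ∧ b ≠ c ∧ b ≠ d ∧
      ∀ z ∈ Γ, z = a ∨ z = b ∨ z = c ∨ z = d := by
  have h2 : ((Γ.erase a).erase b).card = 2 := by
    rw [Finset.card_erase_of_mem (Finset.mem_erase.2 ⟨hab.symm, hb⟩),
      Finset.card_erase_of_mem ha, h]
  obtain ⟨c, d, hcd, e⟩ := Finset.card_eq_two.1 h2
  have hc : c ∈ (Γ.erase a).erase b := by simp [e]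
  have hd : d ∈ (Γ.erase a).erase b := by simp [e]
  simp only [Finset.mem_erase] at hc hd
  refine ⟨c, hc.2.2, d, hd.2.2, hcd, hc.2.1.symm, hd.2.1.symm, hc.1.symm, hd.1.symm, fun z hz => ?_⟩
  by_cases hza : z = a
  · exact Or.inl hza
  by_cases hzb : z = b
  · exact Or.inr (Or.inl hzb)
  have : z ∈ (Γ.erase a).erase b := by simp [hz, hza, hzb]
  rw [e] at this
  simp only [Finset.mem_insert, Finset.mem_singleton] at this
  tauto

/-- The double transposition of `Γ` taking `a` to `b`. -/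
theorem exists_move {H : Subgroup (Perm α)} {Γ : Finset α} (h : HasV H Γ) {a b : α} (ha : a ∈ Γ)
    (hb : b ∈ Γ) (hab : a ≠ b) : ∃ x ∈ H, x a = b ∧ ∀ z ∉ Γ, x z = z := by
  obtain ⟨c, hc, d, hd, hcd, hac, had, hbc, hbd, -⟩ := exists_pair_of_four h.1 ha hb hab
  refine ⟨_, h.2 a ha b hb c hc d hd hab hcd hac had hbc hbd, ?_, fun z hz => ?_⟩
  · rw [Perm.mul_apply, swap_apply_of_ne_of_ne hac had, swap_apply_left]
  · rw [Perm.mul_apply, swap_apply_of_ne_of_ne (fun e : z = c => hz (e ▸ hc)) (fun e : z = d => hz (e ▸ hd)),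
      swap_apply_of_ne_of_ne (fun e : z = a => hz (e ▸ ha)) (fun e : z = b => hz (e ▸ hb))]

theorem threeCycle_of_odd {H : Subgroup (Perm α)} {Γ Δ : Finset α} (h₁ : HasV H Γ) (h₂ : HasV H Δ)
    (hodd : Odd (Γ ∩ Δ).card) : ∃ σ ∈ H, σ.IsThreeCycle := by
  have hle : (Γ ∩ Δ).card ≤ 4 := h₁.1 ▸ Finset.card_le_card Finset.inter_subset_left
  obtain hn | hn : (Γ ∩ Δ).card = 1 ∨ (Γ ∩ Δ).card = 3 := by
    obtain ⟨k, hk⟩ := hodd; omega
  · obtain ⟨a, ha⟩ := Finset.card_eq_one.1 hn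
    have haΓ : a ∈ Γ ∧ a ∈ Δ := Finset.mem_inter.1 (by rw [ha]; simp)
    have hout : ∀ z ∈ Γ, z ∈ Δ → z = a := fun z h1 h2 => by
      have := Finset.mem_inter.2 ⟨h1, h2⟩; rwa [ha, Finset.mem_singleton] at this
    obtain ⟨b, hb, hba⟩ := Finset.exists_mem_ne (by rw [h₁.1]; norm_num) a (s := Γ)
    obtain ⟨e, he, hea⟩ := Finset.exists_mem_ne (by rw [h₂.1]; norm_num) a (s := Δ)
    obtain ⟨c, hc, d, hd, hcd, hac, had, hbc, hbd, -⟩ := exists_pair_of_four h₁.1 haΓ.1 hb hba.symm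
    obtain ⟨f, hf, g, hg, hfg, haf, hag, hef, heg, -⟩ := exists_pair_of_four h₂.1 haΓ.2 he hea.symm
    set x : Perm α := swap a b * swap c d with hx
    set y : Perm α := swap a e * swap f g with hy
    have hxH : x ∈ H := h₁.2 a haΓ.1 b hb c hc d hd hba.symm hcd hac had hbc hbd
    have hyH : y ∈ H := h₂.2 a haΓ.2 e he f hf g hg hea.symm hfg haf hag hef heg
    have hfix : ∀ z ∈ Δ, z ≠ a → x z = z := fun z hz hza => by
      have hn : ∀ w ∈ Γ, z ≠ w := fun w hw e => hza (hout z (e ▸ hw) hz)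
      rw [hx, Perm.mul_apply, swap_apply_of_ne_of_ne (hn c hc) (hn d hd),
        swap_apply_of_ne_of_ne (hn a haΓ.1) (hn b hb)]
    have hxa : x a = b := by
      rw [hx, Perm.mul_apply, swap_apply_of_ne_of_ne hac had, swap_apply_left]
    refine ⟨x * y * x⁻¹ * y, H.mul_mem (H.mul_mem (H.mul_mem hxH hyH) (H.inv_mem hxH)) hyH, ?_⟩
    have hbe : b ≠ e := fun h => hba (hout b hb (h ▸ he))
    rw [hy, show x * (swap a e * swap f g) * x⁻¹ = (x * swap a e * x⁻¹) * (x * swap f g * x⁻¹) by group,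
      swap_conj, swap_conj, hxa, hfix e he hea, hfix f hf haf.symm, hfix g hg hag.symm]
    have hc' : swap f g * swap a e = swap a e * swap f g := by
      rw [Equiv.mul_swap_eq_swap_mul, swap_apply_of_ne_of_ne haf hag, swap_apply_of_ne_of_ne hef heg]
    rw [show swap b e * swap f g * (swap a e * swap f g) = swap b e * (swap f g * swap a e) * swap f g by
      group, hc', show swap b e * (swap a e * swap f g) * swap f g = swap b e * swap a e * (swap f g * swap f g) by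
      group, swap_mul_self, mul_one, swap_comm b e, swap_comm a e]
    exact Perm.isThreeCycle_swap_mul_swap_same hbe.symm hea hba
  · obtain ⟨a, b, c, hab, hac, hbc, habc⟩ := Finset.card_eq_three.1 hn
    have ha : a ∈ Γ ∧ a ∈ Δ := Finset.mem_inter.1 (by rw [habc]; simp)
    have hb : b ∈ Γ ∧ b ∈ Δ := Finset.mem_inter.1 (by rw [habc]; simp)
    have hc : c ∈ Γ ∧ c ∈ Δ := Finset.mem_inter.1 (by rw [habc]; simp)
    obtain ⟨d, hd, d', hd', hdd', hbd, hbd', hcd, hcd', hΓ⟩ := exists_pair_of_four h₁.1 hb.1 hc.1 hbc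
    obtain ⟨e, he, e', he', hee', hbe, hbe', hce, hce', hΔ⟩ := exists_pair_of_four h₂.1 hb.2 hc.2 hbc
    obtain ⟨d₀, hd₀, had, hbd₀, hcd₀⟩ : ∃ d₀ ∈ Γ, a ≠ d₀ ∧ b ≠ d₀ ∧ c ≠ d₀ := by
      by_cases h : a = d
      · exact ⟨d', hd', h ▸ hdd', hbd', hcd'⟩
      · exact ⟨d, hd, h, hbd, hcd⟩
    obtain ⟨e₀, he₀, hae, hbe₀, hce₀⟩ : ∃ e₀ ∈ Δ, a ≠ e₀ ∧ b ≠ e₀ ∧ c ≠ e₀ := by
      by_cases h : a = e
      · exact ⟨e', he', h ▸ hee', hbe', hce'⟩
      · exact ⟨e, he, h, hbe, hce⟩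
    have hde : d₀ ≠ e₀ := fun h => by
      have := Finset.mem_inter.2 ⟨hd₀, h ▸ he₀⟩
      rw [habc] at this
      simp only [Finset.mem_insert, Finset.mem_singleton] at this
      rcases this with rfl | rfl | rfl <;> simp_all
    refine ⟨(swap a d₀ * swap b c) * (swap a e₀ * swap b c),
      H.mul_mem (h₁.2 a ha.1 d₀ hd₀ b hb.1 c hc.1 had hbc hab hac hbd₀.symm hcd₀.symm)
        (h₂.2 a ha.2 e₀ he₀ b hb.2 c hc.2 hae hbc hab hac hbe₀.symm hce₀.symm), ?_⟩
    have hc' : swap b c * swap a e₀ = swap a e₀ * swap b c := by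
      rw [Equiv.mul_swap_eq_swap_mul, swap_apply_of_ne_of_ne hab hac,
        swap_apply_of_ne_of_ne hbe₀.symm hce₀.symm]
    rw [show swap a d₀ * swap b c * (swap a e₀ * swap b c) = swap a d₀ * (swap b c * swap a e₀) * swap b c by
      group, hc', show swap a d₀ * (swap a e₀ * swap b c) * swap b c = swap a d₀ * swap a e₀ * (swap b c * swap b c) by
      group, swap_mul_self, mul_one]
    exact Perm.isThreeCycle_swap_mul_swap_same had hae hde

omit [Fintype α] in
/-- A doubly transitive family of quadruples pairwise meeting evenly lives on at most eight points. -/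
theorem card_le_eight [Fintype α] (G : Subgroup (Perm α))
    (h2 : ∀ a b c d : α, a ≠ b → c ≠ d → ∃ g ∈ G, g a = c ∧ g b = d)
    (F : Finset (Finset α)) (h4 : ∀ S ∈ F, S.card = 4)
    (hev : ∀ S ∈ F, ∀ T ∈ F, Even (S ∩ T).card)
    (hinv : ∀ g ∈ G, ∀ S ∈ F, S.image g ∈ F) (hne : F.Nonempty) (a : α) :
    Fintype.card α ≤ 8 ∧ (Fintype.card α = 8 → (F.filter (a ∈ ·)).card = 7) := by
  classical
  have hmeet : ∀ S ∈ F, ∀ T ∈ F, 3 ≤ (S ∩ T).card → S = T := by
    intro S hS T hT h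
    have hle : (S ∩ T).card ≤ 4 := h4 S hS ▸ Finset.card_le_card Finset.inter_subset_left
    obtain ⟨k, hk⟩ := hev S hS T hT
    have e1 := Finset.eq_of_subset_of_card_le (Finset.inter_subset_left (s₂ := T)) (by rw [h4 S hS]; omega)
    have e2 := Finset.eq_of_subset_of_card_le (Finset.inter_subset_right (s₁ := S) (s₂ := T))
      (by rw [h4 T hT]; omega)
    rw [← e1, e2]
  obtain ⟨T, hT, haT⟩ : ∃ T ∈ F, a ∈ T := by
    obtain ⟨S, hS⟩ := hne
    obtain ⟨p, hp, q, hq, hpq⟩ := Finset.one_lt_card.1 (by rw [h4 S hS]; norm_num : 1 < S.card)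
    by_cases h : ∃ b, a ≠ b
    · obtain ⟨b, hb⟩ := h
      obtain ⟨g, hg, h1, -⟩ := h2 p q a b hpq hb
      exact ⟨_, hinv g hg S hS, Finset.mem_image.2 ⟨p, hp, h1⟩⟩
    · push Not at h
      exact absurd (h q ▸ h p) (fun e => hpq e.symm |>.elim)
  set Fa := F.filter (a ∈ ·) with hFa
  set r : α → ℕ := fun x => (Fa.filter (x ∈ ·)).card with hr
  have hrle : ∀ x y, x ≠ a → y ≠ a → r x ≤ r y := by
    intro x y hx hy
    obtain ⟨g, hg, hga, hgx⟩ := h2 a x a y hx.symm hy.symm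
    refine Finset.card_le_card_of_injOn (fun S : Finset α => S.image g) ?_
      (Finset.image_injective g.injective).injOn
    intro S hS
    simp only [Finset.mem_coe, Finset.mem_filter, hFa] at hS ⊢
    exact ⟨⟨hinv g hg S hS.1.1, Finset.mem_image.2 ⟨a, hS.1.2, hga⟩⟩,
      Finset.mem_image.2 ⟨x, hS.2, hgx⟩⟩
  obtain ⟨x₀, hx₀T, hx₀⟩ := Finset.exists_mem_ne (by rw [h4 T hT]; norm_num) a (s := T)
  have hrc : ∀ x, x ≠ a → r x = r x₀ := fun x hx => le_antisymm (hrle _ _ hx hx₀) (hrle _ _ hx₀ hx)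
  have hswap : ∀ s : Finset α, ∑ x ∈ s, r x = ∑ S ∈ Fa, (s ∩ S).card := by
    intro s
    simp only [hr, Finset.card_filter]
    rw [Finset.sum_comm]
    refine Finset.sum_congr rfl fun S _ => ?_
    rw [← Finset.card_filter, Finset.filter_mem_eq_inter]
  have hA : (Fintype.card α - 1) * r x₀ = Fa.card * 3 := by
    have h := hswap ((Finset.univ : Finset α).erase a)
    rw [Finset.sum_congr rfl fun x hx => hrc x (Finset.ne_of_mem_erase hx), Finset.sum_const,
      Finset.card_erase_of_mem (Finset.mem_univ a), Finset.card_univ, smul_eq_mul] at h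
    rw [h, Finset.sum_congr rfl fun S hS => ?_, Finset.sum_const, smul_eq_mul]
    obtain ⟨hS, haS⟩ := Finset.mem_filter.1 hS
    rw [show (Finset.univ.erase a) ∩ S = S.erase a by ext; simp [and_comm],
      Finset.card_erase_of_mem haS, h4 S hS]
  have hTFa : T ∈ Fa := Finset.mem_filter.2 ⟨hT, haT⟩
  have hB : 3 * r x₀ = Fa.card + 2 := by
    have h := hswap (T.erase a)
    rw [Finset.sum_congr rfl fun x hx => hrc x (Finset.ne_of_mem_erase hx), Finset.sum_const,
      Finset.card_erase_of_mem haT, h4 T hT, smul_eq_mul] at h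
    have hone : ∀ S ∈ Fa.erase T, (T.erase a ∩ S).card = 1 := by
      intro S hS
      obtain ⟨hne', hS⟩ := Finset.mem_erase.1 hS
      obtain ⟨hS, haS⟩ := Finset.mem_filter.1 hS
      rw [Finset.erase_inter, Finset.card_erase_of_mem (Finset.mem_inter.2 ⟨haT, haS⟩)]
      have h3 : ¬ 3 ≤ (T ∩ S).card := fun h => hne' (hmeet T hT S hS h).symm
      have h1 : 0 < (T ∩ S).card := Finset.card_pos.2 ⟨a, Finset.mem_inter.2 ⟨haT, haS⟩⟩
      obtain ⟨k, hk⟩ := hev T hT S hS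
      omega
    rw [← Finset.add_sum_erase _ _ hTFa, Finset.sum_congr rfl hone, Finset.sum_const,
      Finset.inter_eq_left.2 (Finset.erase_subset _ _), Finset.card_erase_of_mem haT, h4 T hT,
      Finset.card_erase_of_mem hTFa, smul_eq_mul, mul_one] at h
    have : 0 < Fa.card := Finset.card_pos.2 ⟨T, hTFa⟩
    omega
  have hC : r x₀ ≤ 3 := by
    by_contra hr3
    push Not at hr3
    obtain ⟨S, hS, hxS⟩ : ∃ S ∈ Fa, x₀ ∉ S := by
      by_contra hh
      push Not at hh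
      have : r x₀ = Fa.card := by
        simp only [hr, Finset.filter_true_of_mem hh]
      omega
    obtain ⟨hSF, haS⟩ := Finset.mem_filter.1 hS
    have hpt : ∀ Q ∈ Fa.filter (x₀ ∈ ·), ∃ z, z ∈ Q ∧ z ∈ S.erase a := by
      intro Q hQ
      simp only [hFa, Finset.mem_filter] at hQ
      obtain ⟨k, hk⟩ := hev Q hQ.1.1 S hSF
      have h1 : 0 < (Q ∩ S).card := Finset.card_pos.2 ⟨a, Finset.mem_inter.2 ⟨hQ.1.2, haS⟩⟩
      obtain ⟨z, hz, hza⟩ := Finset.exists_mem_ne (by omega : 1 < (Q ∩ S).card) a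
      exact ⟨z, (Finset.mem_inter.1 hz).1, Finset.mem_erase.2 ⟨hza, (Finset.mem_inter.1 hz).2⟩⟩
    choose f hf1 hf2 using hpt
    have := Finset.card_le_card_of_injOn (s := (Fa.filter (x₀ ∈ ·)).attach) (t := S.erase a)
      (fun Q => f Q.1 Q.2) (fun Q _ => hf2 Q.1 Q.2) (by
        rintro ⟨Q, hQ⟩ - ⟨R, hR⟩ - e
        have e : f Q hQ = f R hR := e
        have hz := hf2 Q hQ
        have hzQ := hf1 Q hQ
        have hzR : f Q hQ ∈ R := e ▸ hf1 R hR
        simp only [hFa, Finset.mem_filter] at hQ hR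
        refine Subtype.ext (hmeet Q hQ.1.1 R hR.1.1 ?_)
        have hxz : x₀ ≠ f Q _ := fun e' => hxS (e' ▸ (Finset.mem_erase.1 hz).2)
        refine (Finset.card_eq_three.2 ⟨a, x₀, f Q _, hx₀.symm,
          (Finset.ne_of_mem_erase hz).symm, hxz, rfl⟩).ge.trans (Finset.card_le_card ?_)
        intro w hw
        simp only [Finset.mem_insert, Finset.mem_singleton] at hw
        rcases hw with rfl | rfl | rfl
        · exact Finset.mem_inter.2 ⟨hQ.1.2, hR.1.2⟩
        · exact Finset.mem_inter.2 ⟨hQ.2, hR.2⟩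
        · exact Finset.mem_inter.2 ⟨hzQ, hzR⟩)
    rw [Finset.card_attach, Finset.card_erase_of_mem haS, h4 S hSF] at this
    change 3 < (Fa.filter (x₀ ∈ ·)).card at hr3
    omega
  have h0 : r x₀ = 1 ∨ r x₀ = 2 ∨ r x₀ = 3 := by omega
  rcases h0 with e | e | e <;> rw [e] at hA hB <;> exact ⟨by omega, fun h => by omega⟩

end CfsgLib.LocalEven.AltOvergroup
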